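import Mathlib

/-! Degree-two field extensions: quadratic relations, generators. -/

namespace Quad

open Polynomial

variable {E K : Type*} [Field E] [Field K] [Algebra E K]

lemma finiteDimensional_of_finrank_two (hdeg : Module.finrank E K = 2) : FiniteDimensional E K :=
  Module.finite_of_finrank_pos (by omega)

lemma adjoin_eq_top_of_notMem (hdeg : Module.finrank E K = 2) {z : K}
    (hz : z ∉ Set.range (algebraMap E K)) : IntermediateField.adjoin E ({z} : Set K) = ⊤ := by
  have : IsSimpleOrder (IntermediateField E K) :=
    IntermediateField.isSimpleOrder_of_finrank_prime E K (by rw [hdeg]; exact Nat.prime_two)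
  rcases eq_bot_or_eq_top (IntermediateField.adjoin E ({z} : Set K)) with h | h
  · exfalso
    apply hz
    have : z ∈ (⊥ : IntermediateField E K) := by
      rw [← h]; exact IntermediateField.mem_adjoin_simple_self E z
    exact IntermediateField.mem_bot.mp this
  · exact h

lemma exists_notMem_range (hdeg : Module.finrank E K = 2) :
    ∃ z : K, z ∉ Set.range (algebraMap E K) := by
  by_contra h
  push Not at h
  have hsurj : Function.Surjective (algebraMap E K) := h
  have h1 : Module.finrank E K = 1 :=
    Module.finrank_of_bijective_algebraMap ⟨(algebraMap E K).injective, hsurj⟩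
  omega

/-- In a degree-2 extension, an element outside the base field satisfies a monic quadratic
relation, which is its minimal polynomial. -/
lemma exists_quadratic (hdeg : Module.finrank E K = 2) {z : K}
    (hz : z ∉ Set.range (algebraMap E K)) :
    ∃ b c : E, z ^ 2 + algebraMap E K b * z + algebraMap E K c = 0 ∧
      minpoly E z = X ^ 2 + C b * X + C c := by
  have hfd := finiteDimensional_of_finrank_two hdeg
  have hint : IsIntegral E z := Algebra.IsIntegral.isIntegral z
  have htop := adjoin_eq_top_of_notMem hdeg hz
  have hnd : (minpoly E z).natDegree = 2 := by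
    rw [← IntermediateField.adjoin.finrank hint, htop, IntermediateField.finrank_top', hdeg]
  have hmonic := minpoly.monic hint
  have hp : minpoly E z = X ^ 2 + C ((minpoly E z).coeff 1) * X + C ((minpoly E z).coeff 0) := by
    ext n
    simp only [coeff_add, coeff_X_pow, coeff_C_mul, coeff_C, coeff_X]
    rcases n with _ | _ | _ | n
    · simp
    · simp
    · have := hmonic.coeff_natDegree
      rw [hnd] at this
      simp [this]
    · rw [coeff_eq_zero_of_natDegree_lt (by omega)]
      simp
  refine ⟨(minpoly E z).coeff 1, (minpoly E z).coeff 0, ?_, hp⟩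
  have h0 := minpoly.aeval E z
  rw [hp] at h0
  simpa using h0

end Quad

namespace Quad

open Polynomial

/-- Every nonzero polynomial over a field is a square times a squarefree polynomial. -/
theorem exists_sq_mul_squarefree {k : Type*} [Field k] (N : k[X]) (hN : N ≠ 0) :
    ∃ g f : k[X], g ≠ 0 ∧ Squarefree f ∧ N = g ^ 2 * f := by
  induction' h : N.natDegree using Nat.strong_induction_on with d ih generalizing N
  by_cases hsq : Squarefree N
  · exact ⟨1, N, one_ne_zero, hsq, by ring⟩
  · rw [Squarefree] at hsq
    push Not at hsq
    obtain ⟨q, ⟨N', hN'⟩, hq⟩ := hsq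
    have hq0 : q ≠ 0 := by
      rintro rfl
      apply hN
      rw [hN']; ring
    have hN'0 : N' ≠ 0 := by
      rintro rfl
      apply hN
      rw [hN']; ring
    have hqd : 0 < q.natDegree := by
      rw [Nat.pos_iff_ne_zero]
      intro h0
      apply hq
      rw [Polynomial.isUnit_iff]
      obtain ⟨c, hc⟩ := Polynomial.natDegree_eq_zero.mp h0
      refine ⟨c, ?_, hc⟩
      rw [isUnit_iff_ne_zero]
      rintro rfl
      apply hq0
      rw [← hc, map_zero]
    have hdeg : N'.natDegree < d := by
      rw [← h, hN', Polynomial.natDegree_mul (mul_ne_zero hq0 hq0) hN'0,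
        Polynomial.natDegree_mul hq0 hq0]
      omega
    obtain ⟨g, f, hg, hf, hgf⟩ := ih _ hdeg N' hN'0 rfl
    refine ⟨q * g, f, mul_ne_zero hq0 hg, hf, ?_⟩
    rw [hN', hgf]; ring

end Quad
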